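import Cfsg.Agent.PlaneFour.Automorphisms
import Cfsg.Agent.Classical.Transvections
import Cfsg.Agent.Classical.LinearOrder
import Mathlib.FieldTheory.Finite.GaloisField

/-!
# Recognition of `PSL(3, 4)` by its action on a plane of order four
-/

set_option autoImplicit false
set_option linter.unusedSectionVars false
set_option linter.style.haveILetI false

open Finset Cfsg

namespace Cfsg.Agent.PlaneFour

universe u v

/-- A simple group of order 20160 acting nontrivially on a plane of order four is `PSL(3, F)` with `|F| = 4`. -/
theorem iso_psl {α : Type v} [Fintype α] [DecidableEq α] {L : Set (Finset α)} (hA : Plane L) {G : Type u}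
    [Group G] [Finite G] [IsSimpleGroup G] (hc : Nat.card G = 20160) (ρ : G →* Equiv.Perm α) (hρ : ρ ≠ 1)
    (hL : ∀ g, ∀ l ∈ L, l.image (ρ g) ∈ L) {F : Type} [Field F] [Fintype F] (hF : Fintype.card F = 4) :
    Nonempty (G ≃* Matrix.ProjectiveSpecialLinearGroup (Fin 3) F) := by
  classical
  -- the plane over the field
  let Y : Type := Projectivization F (Fin 3 → F)
  haveI : Fintype Y := Fintype.ofFinite _
  let LB : Set (Finset Y) := {l | ∃ W : Submodule F (Fin 3 → F), Module.finrank F W = 2 ∧
    ∀ y : Y, y ∈ l ↔ Projectivization.submodule y ≤ W}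
  have hnF : Nat.card F = 4 := by rw [Nat.card_eq_fintype_card, hF]
  have hB : Cfsg.Agent.PlaneFour.Plane LB := by
    refine ⟨⟨fun l ⟨W, hW, hl⟩ => ?_, fun s hs => ?_⟩, ?_⟩
    · have e : ↥l ≃ Projectivization F W :=
        { toFun := fun y => Projectivization.mk'' ((Projectivization.submodule y.1).comap W.subtype) (by
            rw [(Submodule.comapSubtypeEquivOfLe ((hl _).mp y.2)).finrank_eq,
              Projectivization.finrank_submodule])
          invFun := fun w => ⟨Projectivization.mk'' ((Projectivization.submodule w).map W.subtype) (by
            rw [Submodule.finrank_map_subtype_eq, Projectivization.finrank_submodule]), (hl _).mpr (by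
            rw [Projectivization.submodule_mk'']; exact Submodule.map_subtype_le _ _)⟩
          left_inv := fun y => Subtype.ext (Projectivization.submodule_injective (by
            simp [Submodule.map_comap_subtype, (hl _).mp y.2]))
          right_inv := fun w => Projectivization.submodule_injective (by
            simp [Submodule.comap_map_eq_of_injective W.injective_subtype]) }
      rw [← Fintype.card_coe, ← Nat.card_eq_fintype_card, Nat.card_congr e,
        Projectivization.card_of_finrank_two _ _ hW, hnF]
    · obtain ⟨u, v, huv, rfl⟩ := Finset.card_eq_two.mp hs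
      set W := Projectivization.submodule u ⊔ Projectivization.submodule v with hW
      have hinf : Projectivization.submodule u ⊓ Projectivization.submodule v = ⊥ := by
        by_contra hne
        have h1 := Submodule.one_le_finrank_iff.mpr hne
        have e1 : Projectivization.submodule u ⊓ Projectivization.submodule v =
            Projectivization.submodule u := Submodule.eq_of_le_of_finrank_le inf_le_left (by
          rw [Projectivization.finrank_submodule]; exact h1)
        have e2 : Projectivization.submodule u ⊓ Projectivization.submodule v =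
            Projectivization.submodule v := Submodule.eq_of_le_of_finrank_le inf_le_right (by
          rw [Projectivization.finrank_submodule]; exact h1)
        exact huv (Projectivization.submodule_injective (e1.symm.trans e2))
      have hW2 : Module.finrank F W = 2 := by
        have := Submodule.finrank_sup_add_finrank_inf_eq (Projectivization.submodule u)
          (Projectivization.submodule v)
        rw [hinf, finrank_bot, Projectivization.finrank_submodule,
          Projectivization.finrank_submodule, ← hW] at this
        omega
      refine ⟨Finset.univ.filter fun y => Projectivization.submodule y ≤ W,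
        ⟨⟨W, hW2, fun y => by simp⟩, ?_⟩, ?_⟩
      · intro y hy
        simp only [Finset.mem_insert, Finset.mem_singleton] at hy
        rcases hy with rfl | rfl <;> simp [hW]
      · rintro l ⟨⟨W', hW', hl⟩, hsub⟩
        have e : W = W' := Submodule.eq_of_le_of_finrank_le
          (sup_le ((hl u).mp (hsub (by simp))) ((hl v).mp (hsub (by simp)))) (by rw [hW2, hW'])
        ext y
        simp [hl, e]
    · rw [← Nat.card_eq_fintype_card]
      show Nat.card (Projectivization F (Fin 3 → F)) = 21
      rw [Projectivization.card_of_finrank (n := 3) _ _ (Module.finrank_fin_fun F), hnF]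
      rfl
  obtain ⟨HA, hA6, hAarc⟩ := hA.exists_oval
  obtain ⟨HB, hB6, hBarc⟩ := hB.exists_oval
  obtain ⟨e, he, -⟩ := exists_iso hA hB hA6 hAarc hB6 hBarc
    (Finset.equivOfCardEq (hA6.trans hB6.symm))
  let φ : G →* Equiv.Perm Y :=
    { toFun := fun g => e.permCongr (ρ g)
      map_one' := Equiv.ext fun y => by simp [Equiv.permCongr_apply]
      map_mul' := fun g h => Equiv.ext fun y => by simp [Equiv.permCongr_apply, Equiv.Perm.mul_apply] }
  have hφA : ∀ g : G, φ g ∈ Cfsg.setSystemAut LB := by
    intro g
    refine hB.mem_aut_of_line_image fun l hl => ?_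
    obtain ⟨b, hb, rfl⟩ := (show l ∈ (fun b => b.image e) '' L from he ▸ hl)
    have := he ▸ Set.mem_image_of_mem (fun b : Finset α => b.image e) (hL g b hb)
    convert! this using 1
    simp only [Finset.image_image]
    congr 1
    funext x
    simp [φ, Equiv.permCongr_apply]
  let ψ : G →* ↥(Cfsg.setSystemAut LB) := φ.codRestrict _ hφA
  have hψ : Function.Injective ψ := by
    rw [← MonoidHom.ker_eq_bot_iff]
    refine (ψ.normal_ker.eq_bot_or_eq_top).resolve_right fun ht => hρ (MonoidHom.ext fun g => ?_)
    have h0 : ψ g = 1 := MonoidHom.mem_ker.mp (by rw [ht]; exact Subgroup.mem_top g)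
    have h1 : φ g = (1 : Equiv.Perm Y) := congrArg Subtype.val h0
    refine Equiv.ext fun x => e.injective ?_
    have h2 := DFunLike.congr_fun h1 (e x)
    simpa [φ, Equiv.permCongr_apply] using h2
  -- the linear group
  have hχA : ∀ g : Matrix.ProjectiveSpecialLinearGroup (Fin 3) F,
      Projectivization.PSLAction.toPermHom g ∈ Cfsg.setSystemAut LB := by
    intro g
    obtain ⟨A, rfl⟩ := QuotientGroup.mk_surjective g
    refine hB.mem_aut_of_line_image fun l ⟨W, hW, hl⟩ => ?_
    let T : (Fin 3 → F) ≃ₗ[F] (Fin 3 → F) := Matrix.SpecialLinearGroup.toLin' A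
    have hsub : ∀ y : Y, Projectivization.submodule (A • y : Y) =
        (Projectivization.submodule y).map T.toLinearMap := by
      intro y
      induction y using Projectivization.ind with
      | h v hv =>
        rw [Projectivization.smul_mk, Projectivization.submodule_mk, Projectivization.submodule_mk,
          Submodule.map_span, Set.image_singleton]
        rfl
    refine ⟨W.map T.toLinearMap, by rw [LinearEquiv.finrank_map_eq, hW], fun y => ?_⟩
    have hperm : ∀ x : Y, Projectivization.PSLAction.toPermHom
        (QuotientGroup.mk A : Matrix.ProjectiveSpecialLinearGroup (Fin 3) F) x = (A • x : Y) :=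
      fun x => rfl
    rw [Finset.mem_image]
    constructor
    · rintro ⟨x, hx, rfl⟩
      rw [hperm, hsub]
      exact Submodule.map_mono ((hl x).mp hx)
    · intro hy
      refine ⟨(A⁻¹ • y : Y), (hl _).mpr ?_, by rw [hperm, smul_inv_smul]⟩
      have h1 := hsub (A⁻¹ • y : Y)
      rw [smul_inv_smul] at h1
      rw [h1, Submodule.map_le_map_iff_of_injective T.injective] at hy
      exact hy
  let χ : Matrix.ProjectiveSpecialLinearGroup (Fin 3) F →* ↥(Cfsg.setSystemAut LB) :=
    (Projectivization.PSLAction.toPermHom (K := F) (ι := Fin 3)).codRestrict _ hχA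
  have hχ : Function.Injective χ := fun a b hab =>
    Matrix.ProjectiveSpecialLinearGroup.toPermHom_injective (congrArg Subtype.val hab)
  have hPc : Nat.card (Matrix.ProjectiveSpecialLinearGroup (Fin 3) F) = 20160 := by
    have := CfsgLib.Linear.card_PSL_mul hF 3 (by norm_num)
    rw [Fin.prod_univ_three] at this
    rw [show Nat.gcd 3 (4 - 1) = 3 from rfl] at this
    norm_num at this
    rw [Nat.card_eq_fintype_card]; omega
  haveI : IsSimpleGroup (Matrix.ProjectiveSpecialLinearGroup (Fin 3) F) :=
    CfsgLib.Linear.isSimpleGroup_PSL (Or.inl (by simp))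
  have hcK : Nat.card ψ.range = 20160 := by
    rw [← Nat.card_congr (MonoidHom.ofInjective hψ).toEquiv, hc]
  have hcN : Nat.card χ.range = 20160 := by
    rw [← Nat.card_congr (MonoidHom.ofInjective hχ).toEquiv, hPc]
  haveI : Nontrivial χ.range := Finite.one_lt_card_iff_nontrivial.mp (by rw [hcN]; norm_num)
  haveI : IsSimpleGroup χ.range :=
    IsSimpleGroup.isSimpleGroup_of_surjective χ.rangeRestrict χ.rangeRestrict_surjective
  have heq := eq_of_simple_of_card hB.card_aut_le ψ.range χ.range hcK hcN
  exact ⟨((MonoidHom.ofInjective hψ).trans (MulEquiv.subgroupCongr heq)).trans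
    (MonoidHom.ofInjective hχ).symm⟩

/-- There is a field with four elements. -/
theorem exists_field_four : ∃ (F : Type) (_ : Field F) (_ : Fintype F), Fintype.card F = 4 := by
  haveI : Fact (Nat.Prime 2) := ⟨Nat.prime_two⟩
  haveI : Fintype (GaloisField 2 2) := Fintype.ofFinite _
  refine ⟨GaloisField 2 2, inferInstance, this, ?_⟩
  rw [← Nat.card_eq_fintype_card, GaloisField.card 2 2 two_ne_zero]
  rfl

end Cfsg.Agent.PlaneFour
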