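import Cfsg.Agent.PlaneFour.Basic

/-!
# The automorphism group of the plane of order four
-/

set_option autoImplicit false
set_option linter.unusedSectionVars false

open Finset Cfsg

namespace Cfsg.Agent.PlaneFour

variable {α : Type*} [Fintype α] [DecidableEq α]

lemma mem_setSystemAut {L : Set (Finset α)} (g : Equiv.Perm α) :
    g ∈ setSystemAut L ↔ (fun l => l.image g) '' L = L := Iff.rfl

namespace Plane

variable {L : Set (Finset α)} (P : Plane L)
include P

lemma line_image {g : Equiv.Perm α} (hg : g ∈ setSystemAut L) {l : Finset α} (hl : l ∈ L) :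
    l.image g ∈ L :=
  ((mem_setSystemAut g).mp hg) ▸ Set.mem_image_of_mem (fun l : Finset α => l.image g) hl

lemma mem_aut_of_line_image {g : Equiv.Perm α} (h : ∀ l ∈ L, l.image g ∈ L) :
    g ∈ setSystemAut L := by
  rw [mem_setSystemAut]
  refine Set.Subset.antisymm (Set.image_subset_iff.mpr h) fun m hm => ?_
  obtain ⟨x, hx, y, hy, hxy⟩ := Finset.one_lt_card.mp (by rw [P.card_line hm]; norm_num : 1 < m.card)
  have hne : g.symm x ≠ g.symm y := fun e => hxy (g.symm.injective e)
  refine ⟨join L (g.symm x) (g.symm y), P.join_mem hne, ?_⟩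
  exact P.eq_of_two (h _ (P.join_mem hne)) hm hxy
    (Finset.mem_image.mpr ⟨_, P.left_mem hne, g.apply_symm_apply x⟩)
    (Finset.mem_image.mpr ⟨_, P.right_mem hne, g.apply_symm_apply y⟩) hx hy

lemma card_aut_le : Nat.card ↥(setSystemAut L) ≤ 120960 := by
  classical
  obtain ⟨H, h6, hH⟩ := P.exists_oval
  have himg : ∀ g : ↥(setSystemAut L), H.image (g : Equiv.Perm α) ∈ P.arcs 6 := by
    intro g
    rw [P.mem_arcs]
    refine ⟨by rw [Finset.card_image_of_injective _ g.1.injective, h6], fun l hl => ?_⟩
    have hl' : l.image (g : Equiv.Perm α).symm ∈ L := P.line_image (g⁻¹).2 hl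
    have e : l ∩ H.image (g : Equiv.Perm α) =
        (l.image (g : Equiv.Perm α).symm ∩ H).image (g : Equiv.Perm α) := by
      rw [Finset.image_inter _ _ g.1.injective, Finset.image_image]
      simp
    rw [e]
    exact Finset.card_image_le.trans (hH _ hl')
  let f : ↥(setSystemAut L) → Σ T : ↥(P.arcs 6), (↥H ≃ ↥T.1) := fun g =>
    ⟨⟨H.image (g : Equiv.Perm α), himg g⟩,
      ((g : Equiv.Perm α).subtypeEquiv fun x => by simp)⟩
  have hf : Function.Injective f := by
    intro g g' e
    have hval : ∀ x : ↥H, (g : Equiv.Perm α) x = (g' : Equiv.Perm α) x := fun x => by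
      have := congrArg (fun s : Σ T : ↥(P.arcs 6), (↥H ≃ ↥T.1) => ((s.2 x : α))) e
      exact this
    let σ : ↥H ≃ ↥(H.image (g : Equiv.Perm α)) := (g : Equiv.Perm α).subtypeEquiv fun x => by simp
    exact Subtype.ext (iso_unique P P h6 hH (P.mem_arcs.mp (himg g)).1 (P.mem_arcs.mp (himg g)).2 σ
      _ _ (fun l hl => P.line_image g.2 hl) (fun l hl => P.line_image g'.2 hl)
      (fun x => rfl) (fun x => (hval x).symm))
  have h720 : ∀ T : ↥(P.arcs 6), Fintype.card (↥H ≃ ↥T.1) = 720 := fun T => by
    rw [Fintype.card_equiv (Finset.equivOfCardEq (h6.trans (P.mem_arcs.mp T.2).1.symm)),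
      Fintype.card_coe, h6]
    rfl
  refine (Nat.card_le_card_of_injective f hf).trans (le_of_eq ?_)
  rw [Nat.card_eq_fintype_card, Fintype.card_sigma, Finset.sum_congr rfl fun T _ => h720 T,
    Finset.sum_const, Finset.card_univ, Fintype.card_coe, P.card_arcs.2]
  rfl

end Plane

/-- Two subgroups of order 20160, one of them simple, of a group of order at most 120960 are
equal. -/
theorem eq_of_simple_of_card {G : Type*} [Group G] [Finite G] (hG : Nat.card G ≤ 120960)
    (K N : Subgroup G) (hK : Nat.card K = 20160) (hN : Nat.card N = 20160) [IsSimpleGroup N] :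
    K = N := by
  have hidx : K.index ≤ 6 := by
    have := K.card_mul_index
    rw [hK] at this
    omega
  have hrel : K.relIndex N ≤ K.index := by
    rw [← Subgroup.relIndex_top_right]
    exact Subgroup.relIndex_le_of_le_right le_top
      (by rw [Subgroup.relIndex_top_right]; exact Subgroup.index_ne_zero_of_finite)
  rcases (K.subgroupOf N).normalCore_normal.eq_bot_or_eq_top with h | h
  · exfalso
    have hinj : Function.Injective (MulAction.toPermHom N (N ⧸ K.subgroupOf N)) := by
      rw [← MonoidHom.ker_eq_bot_iff, ← Subgroup.normalCore_eq_ker, h]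
    have hle := Nat.card_le_card_of_injective _ hinj
    rw [Nat.card_perm, ← Subgroup.index_eq_card, hN] at hle
    have h6 : (K.subgroupOf N).index ≤ 6 := hrel.trans hidx
    have := Nat.factorial_le h6
    norm_num [Nat.factorial] at this
    omega
  · have hle : N ≤ K :=
      Subgroup.subgroupOf_eq_top.mp (top_le_iff.mp (h ▸ Subgroup.normalCore_le _))
    exact (Subgroup.eq_of_le_of_card_ge hle (by rw [hK, hN])).symm

end Cfsg.Agent.PlaneFour
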