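import Cfsg.Agent.Steiner.Counting

/-!
# The projective plane of order four through its hyperovals

A bijection between hyperovals of two planes of order four extends uniquely to an isomorphism of
planes, and every independent four-set lies in exactly one hyperoval.
-/

set_option autoImplicit false
set_option linter.unusedSectionVars false

open Finset Cfsg

namespace Cfsg.Agent.PlaneFour

variable {α : Type*} [Fintype α] [DecidableEq α]

/-- A plane of order four. -/
structure Plane (L : Set (Finset α)) : Prop where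
  steiner : IsSteinerSystem 2 5 L
  pts : Fintype.card α = 21

/-- A set meeting every line in at most two points. -/
def IsArc (L : Set (Finset α)) (S : Finset α) : Prop := ∀ l ∈ L, (l ∩ S).card ≤ 2

open Classical in
/-- The line through two points. -/
noncomputable def join (L : Set (Finset α)) (p q : α) : Finset α :=
  if h : ∃ l ∈ L, p ∈ l ∧ q ∈ l then h.choose else ∅

lemma IsArc.mono {L : Set (Finset α)} {S T : Finset α} (h : IsArc L T) (hs : S ⊆ T) : IsArc L S :=
  fun l hl => le_trans (Finset.card_le_card (Finset.inter_subset_inter_left hs)) (h l hl)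

namespace Plane

variable {L : Set (Finset α)} (P : Plane L)
include P

lemma exists_line {p q : α} (h : p ≠ q) : ∃ l ∈ L, p ∈ l ∧ q ∈ l := by
  obtain ⟨l, ⟨hl, hs⟩, -⟩ := P.steiner.2 {p, q} (Finset.card_pair h)
  exact ⟨l, hl, hs (by simp), hs (by simp)⟩

lemma join_mem {p q : α} (h : p ≠ q) : join L p q ∈ L := by
  rw [join, dif_pos (P.exists_line h)]
  exact (P.exists_line h).choose_spec.1

lemma left_mem {p q : α} (h : p ≠ q) : p ∈ join L p q := by
  rw [join, dif_pos (P.exists_line h)]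
  exact (P.exists_line h).choose_spec.2.1

lemma right_mem {p q : α} (h : p ≠ q) : q ∈ join L p q := by
  rw [join, dif_pos (P.exists_line h)]
  exact (P.exists_line h).choose_spec.2.2

lemma eq_of_two {l m : Finset α} (hl : l ∈ L) (hm : m ∈ L) {p q : α} (h : p ≠ q) (hpl : p ∈ l)
    (hql : q ∈ l) (hpm : p ∈ m) (hqm : q ∈ m) : l = m := by
  obtain ⟨d, -, hu⟩ := P.steiner.2 {p, q} (Finset.card_pair h)
  rw [hu l ⟨hl, by simp [Finset.insert_subset_iff, hpl, hql]⟩,
    hu m ⟨hm, by simp [Finset.insert_subset_iff, hpm, hqm]⟩]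

lemma eq_join {l : Finset α} (hl : l ∈ L) {p q : α} (h : p ≠ q) (hp : p ∈ l) (hq : q ∈ l) :
    l = join L p q :=
  P.eq_of_two hl (P.join_mem h) h hp hq (P.left_mem h) (P.right_mem h)

lemma join_comm {p q : α} (h : p ≠ q) : join L p q = join L q p :=
  P.eq_join (P.join_mem h) h.symm (P.right_mem h) (P.left_mem h)

lemma unique_meet {l m : Finset α} (hl : l ∈ L) (hm : m ∈ L) (hne : l ≠ m) {p q : α}
    (hpl : p ∈ l) (hpm : p ∈ m) (hql : q ∈ l) (hqm : q ∈ m) : p = q :=
  by_contra fun h => hne (P.eq_of_two hl hm h hpl hql hpm hqm)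

lemma card_line {l : Finset α} (hl : l ∈ L) : l.card = 5 := P.steiner.1 l hl

open Classical in
/-- The lines through a point. -/
noncomputable def pencil (_P : Plane L) (p : α) : Finset (Finset α) :=
  univ.filter fun l => l ∈ L ∧ p ∈ l

lemma mem_pencil {p : α} {l : Finset α} : l ∈ P.pencil p ↔ l ∈ L ∧ p ∈ l := by simp [pencil]

lemma card_pencil (p : α) : (P.pencil p).card = 5 := by
  classical
  have h := CfsgLib.Steiner.count_eq P.steiner (i := 1) (n := 5) (by norm_num)
    (by rw [P.pts]; rfl) (by norm_num) {p} (Finset.card_singleton p)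
  rw [← h]
  congr 1
  ext l
  simp [mem_pencil, CfsgLib.Steiner.mem_blocks]

lemma exists_meet {l m : Finset α} (hl : l ∈ L) (hm : m ∈ L) : ∃ p, p ∈ l ∧ p ∈ m := by
  classical
  by_contra h
  simp only [not_exists, not_and] at h
  obtain ⟨p, hp⟩ : l.Nonempty := Finset.card_pos.mp (by rw [P.card_line hl]; norm_num)
  have hne : ∀ x ∈ m, p ≠ x := fun x hx e => h p hp (e ▸ hx)
  have hsub : insert l (m.image (join L p)) ⊆ P.pencil p := by
    intro x hx
    rcases Finset.mem_insert.mp hx with rfl | hx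
    · exact P.mem_pencil.mpr ⟨hl, hp⟩
    · obtain ⟨y, hy, rfl⟩ := Finset.mem_image.mp hx
      exact P.mem_pencil.mpr ⟨P.join_mem (hne y hy), P.left_mem (hne y hy)⟩
  have hnot : l ∉ m.image (join L p) := fun hmem => by
    obtain ⟨y, hy, e⟩ := Finset.mem_image.mp hmem
    exact h y (e ▸ P.right_mem (hne y hy)) hy
  have := Finset.card_le_card hsub
  rw [Finset.card_insert_of_notMem hnot, Finset.card_image_of_injOn, P.card_pencil,
    P.card_line hm] at this
  · omega
  · intro x hx y hy e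
    by_contra hxy
    have hm' : m = join L p x := P.eq_of_two hm (P.join_mem (hne x hx)) hxy hx hy
      (P.right_mem (hne x hx)) (by rw [show join L p x = join L p y from e]; exact P.right_mem (hne y hy))
    exact h p hp (hm' ▸ P.left_mem (hne x hx))

lemma isArc_not_mem {S : Finset α} (hS : IsArc L S) {a b c : α} (ha : a ∈ S) (hb : b ∈ S)
    (hc : c ∈ S) (hab : a ≠ b) (hac : a ≠ c) (hbc : b ≠ c) : c ∉ join L a b := fun h => by
  have hle := hS _ (P.join_mem hab)
  have h3 : ({a, b, c} : Finset α) ⊆ join L a b ∩ S := by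
    simp [Finset.insert_subset_iff, P.left_mem hab, P.right_mem hab, h, ha, hb, hc]
  have := Finset.card_le_card h3
  rw [Finset.card_eq_three.mpr ⟨a, b, c, hab, hac, hbc, rfl⟩] at this
  omega

lemma join_ne_of_arc {S : Finset α} (hS : IsArc L S) {a b c d : α} (ha : a ∈ S) (hb : b ∈ S)
    (hc : c ∈ S) (_hd : d ∈ S) (hab : a ≠ b) (hcd : c ≠ d) (hca : c ≠ a) (hcb : c ≠ b) :
    join L a b ≠ join L c d := fun e =>
  P.isArc_not_mem hS ha hb hc hab hca.symm hcb.symm (e ▸ P.left_mem hcd)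

/-! ### A fixed hyperoval -/

section Oval

variable {H : Finset α} (h6 : H.card = 6) (hH : IsArc L H)
include h6 hH

lemma inter_oval {l : Finset α} (hl : l ∈ L) {a : α} (hal : a ∈ l) (ha : a ∈ H) :
    (l ∩ H).card = 2 := by
  refine le_antisymm (hH l hl) ?_
  have hcard : ((H.erase a).image (join L a)).card = 5 := by
    rw [Finset.card_image_of_injOn, Finset.card_erase_of_mem ha, h6]
    intro x hx y hy e
    simp only [Finset.coe_erase, Set.mem_sdiff, Finset.mem_coe, Set.mem_singleton_iff] at hx hy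
    by_contra hxy
    exact P.isArc_not_mem hH ha hx.1 hy.1 (Ne.symm hx.2) (Ne.symm hy.2) hxy
      (by rw [show join L a x = join L a y from e]; exact P.right_mem (Ne.symm hy.2))
  have heq : (H.erase a).image (join L a) = P.pencil a := by
    refine Finset.eq_of_subset_of_card_le (fun x hx => ?_) (by rw [hcard, P.card_pencil])
    obtain ⟨y, hy, rfl⟩ := Finset.mem_image.mp hx
    have hne := (Finset.ne_of_mem_erase hy).symm
    exact P.mem_pencil.mpr ⟨P.join_mem hne, P.left_mem hne⟩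
  have hmem : l ∈ (H.erase a).image (join L a) := heq ▸ P.mem_pencil.mpr ⟨hl, hal⟩
  obtain ⟨b, hb, rfl⟩ := Finset.mem_image.mp hmem
  have hne := (Finset.ne_of_mem_erase hb).symm
  rw [← Finset.card_pair hne]
  exact Finset.card_le_card (by
    simp [Finset.insert_subset_iff, P.left_mem hne, P.right_mem hne, ha, Finset.mem_of_mem_erase hb])

lemma exists_partner {p a : α} (hp : p ∉ H) (ha : a ∈ H) :
    ∃ b ∈ H, b ≠ a ∧ p ∈ join L a b := by
  have hne : a ≠ p := fun e => hp (e ▸ ha)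
  have h2 := P.inter_oval h6 hH (P.join_mem hne) (P.left_mem hne) ha
  obtain ⟨b, hb, hba⟩ := Finset.exists_mem_ne (s := join L a p ∩ H) (by omega) a
  rw [Finset.mem_inter] at hb
  refine ⟨b, hb.2, hba, ?_⟩
  rw [← P.eq_join (P.join_mem hne) hba.symm (P.left_mem hne) hb.1]
  exact P.right_mem hne

lemma partner_unique {p a b c : α} (hp : p ∉ H) (ha : a ∈ H) (hb : b ∈ H) (hc : c ∈ H)
    (hba : b ≠ a) (hca : c ≠ a) (h1 : p ∈ join L a b) (h2 : p ∈ join L a c) : b = c := by
  by_contra hbc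
  have hne : a ≠ p := fun e => hp (e ▸ ha)
  have e := P.eq_of_two (P.join_mem hba.symm) (P.join_mem hca.symm) hne (P.left_mem hba.symm) h1
    (P.left_mem hca.symm) h2
  exact P.isArc_not_mem hH ha hb hc hba.symm hca.symm hbc (e ▸ P.right_mem hca.symm)

/-- The third secant through the meeting point of two secants. -/
lemma third {p a b c d x y : α} (hp : p ∉ H) (ha : a ∈ H) (hb : b ∈ H) (hc : c ∈ H) (hd : d ∈ H)
    (hab : a ≠ b) (hcd : c ≠ d) (hac : a ≠ c) (had : a ≠ d) (hbc : b ≠ c) (hbd : b ≠ d)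
    (hx : x ∈ H) (hy : y ∈ H) (hxy : x ≠ y) (hx4 : x ≠ a ∧ x ≠ b ∧ x ≠ c ∧ x ≠ d)
    (hy4 : y ≠ a ∧ y ≠ b ∧ y ≠ c ∧ y ≠ d) (h1 : p ∈ join L a b) (h2 : p ∈ join L c d) :
    p ∈ join L x y := by
  obtain ⟨z, hz, hzx, hpz⟩ := P.exists_partner h6 hH hp hx
  have key : ∀ {u v : α}, u ∈ H → v ∈ H → u ≠ v → p ∈ join L u v → x ≠ v → z ≠ u := by
    intro u v hu hv huv hpuv hxv e
    subst e
    rw [P.join_comm hzx.symm] at hpz
    exact hxv (P.partner_unique h6 hH hp hu hx hv hzx.symm huv.symm hpz hpuv)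
  have za := key ha hb hab h1 hx4.2.1
  have zb := key hb ha hab.symm (P.join_comm hab ▸ h1) hx4.1
  have zc := key hc hd hcd h2 hx4.2.2.2
  have zd := key hd hc hcd.symm (P.join_comm hcd ▸ h2) hx4.2.2.1
  have hzy : z = y := by
    by_contra hne
    have hsub : ({a, b, c, d, x, y, z} : Finset α) ⊆ H := by
      simp [Finset.insert_subset_iff, ha, hb, hc, hd, hx, hy, hz]
    have := Finset.card_le_card hsub
    obtain ⟨xa, xb, xc, xd⟩ := hx4
    obtain ⟨ya, yb, yc, yd⟩ := hy4
    rw [h6] at this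
    simp [hab, hcd, hac, had, hbc, hbd, xa.symm, xb.symm, xc.symm, xd.symm, ya.symm, yb.symm,
      yc.symm, yd.symm, za.symm, zb.symm, zc.symm, zd.symm, hxy, hzx.symm, Ne.symm hne] at this
  exact hzy ▸ hpz

lemma meet_not_mem {p a b c d : α} (ha : a ∈ H) (hb : b ∈ H) (hc : c ∈ H) (hd : d ∈ H)
    (hab : a ≠ b) (hcd : c ≠ d) (hac : a ≠ c) (had : a ≠ d) (hbc : b ≠ c) (hbd : b ≠ d)
    (h1 : p ∈ join L a b) (h2 : p ∈ join L c d) : p ∉ H := fun hp => by
  have e1 : p = a ∨ p = b := by
    by_contra h; push Not at h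
    exact P.isArc_not_mem hH ha hb hp hab h.1.symm h.2.symm h1
  have e2 : p = c ∨ p = d := by
    by_contra h; push Not at h
    exact P.isArc_not_mem hH hc hd hp hcd h.1.symm h.2.symm h2
  rcases e1 with rfl | rfl <;> rcases e2 with rfl | rfl
  exacts [hac rfl, had rfl, hbc rfl, hbd rfl]

lemma eq_of_two_secants {p q a b c d : α} (ha : a ∈ H) (hb : b ∈ H) (hc : c ∈ H) (hd : d ∈ H)
    (hab : a ≠ b) (hcd : c ≠ d) (hca : c ≠ a) (hcb : c ≠ b)
    (hp1 : p ∈ join L a b) (hp2 : p ∈ join L c d) (hq1 : q ∈ join L a b) (hq2 : q ∈ join L c d) :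
    p = q :=
  P.unique_meet (P.join_mem hab) (P.join_mem hcd) (P.join_ne_of_arc hH ha hb hc hd hab hcd hca hcb)
    hp1 hp2 hq1 hq2

lemma at_most_two_external {p : α} (hp : p ∉ H) {l m k : Finset α} (hl : l ∈ L) (hm : m ∈ L)
    (hk : k ∈ L) (pl : p ∈ l) (pm : p ∈ m) (pk : p ∈ k) (el : Disjoint l H) (em : Disjoint m H)
    (ek : Disjoint k H) (hlm : l ≠ m) (hlk : l ≠ k) (hmk : m ≠ k) : False := by
  have hne : ∀ h ∈ H, p ≠ h := fun h hh e => hp (e ▸ hh)
  have hfib : ∀ x ∈ H.image (join L p), (H.filter fun h => join L p h = x).card ≤ 2 := by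
    intro x hx
    obtain ⟨a, ha, rfl⟩ := Finset.mem_image.mp hx
    refine le_trans (Finset.card_le_card fun h hh => ?_) (hH _ (P.join_mem (hne a ha)))
    rw [Finset.mem_filter] at hh
    exact Finset.mem_inter.mpr ⟨hh.2 ▸ P.right_mem (hne h hh.1), hh.1⟩
  have h3 := Finset.card_le_mul_card_image H 2 hfib
  have hdis : Disjoint (H.image (join L p)) {l, m, k} := by
    rw [Finset.disjoint_left]
    intro x hx hx'
    obtain ⟨a, ha, rfl⟩ := Finset.mem_image.mp hx
    have hmem := P.right_mem (hne a ha)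
    simp only [Finset.mem_insert, Finset.mem_singleton] at hx'
    rcases hx' with e | e | e <;> rw [e] at hmem
    exacts [Finset.disjoint_left.mp el hmem ha, Finset.disjoint_left.mp em hmem ha,
      Finset.disjoint_left.mp ek hmem ha]
  have hsub : H.image (join L p) ∪ {l, m, k} ⊆ P.pencil p := by
    intro x hx
    rw [Finset.mem_union] at hx
    rcases hx with hx | hx
    · obtain ⟨a, ha, rfl⟩ := Finset.mem_image.mp hx
      exact P.mem_pencil.mpr ⟨P.join_mem (hne a ha), P.left_mem (hne a ha)⟩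
    · simp only [Finset.mem_insert, Finset.mem_singleton] at hx
      rcases hx with rfl | rfl | rfl
      exacts [P.mem_pencil.mpr ⟨hl, pl⟩, P.mem_pencil.mpr ⟨hm, pm⟩, P.mem_pencil.mpr ⟨hk, pk⟩]
  have hc := Finset.card_le_card hsub
  rw [Finset.card_union_of_disjoint hdis, P.card_pencil,
    Finset.card_eq_three.mpr ⟨l, m, k, hlm, hlk, hmk, rfl⟩] at hc
  omega

/-- Five points pairwise joined by external lines are collinear. -/
lemma clique_line {K : Finset α} (hK : K.card = 5) (hout : ∀ p ∈ K, p ∉ H)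
    (hext : ∀ p ∈ K, ∀ q ∈ K, p ≠ q → Disjoint (join L p q) H) : K ∈ L := by
  obtain ⟨p, hp, q, hq, hpq⟩ := Finset.one_lt_card.mp (by omega : 1 < K.card)
  suffices K ⊆ join L p q by
    rw [Finset.eq_of_subset_of_card_le this (by rw [P.card_line (P.join_mem hpq), hK])]
    exact P.join_mem hpq
  intro r hr
  by_contra hrl
  have hrp : p ≠ r := fun e => hrl (e ▸ P.left_mem hpq)
  have hrq : q ≠ r := fun e => hrl (e ▸ P.right_mem hpq)
  have hlm : join L p q ≠ join L p r := fun e => hrl (e ▸ P.right_mem hrp)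
  have hln : join L p q ≠ join L q r := fun e => hrl (e ▸ P.right_mem hrq)
  have hmn : join L p r ≠ join L q r := fun e => hlm (P.eq_of_two (P.join_mem hpq) (P.join_mem hrp)
    hpq (P.left_mem hpq) (P.right_mem hpq) (P.left_mem hrp) (e ▸ P.left_mem hrq))
  have hsub : K ⊆ {p, q, r} := by
    intro s hs
    by_contra hne
    simp only [Finset.mem_insert, Finset.mem_singleton, not_or] at hne
    obtain ⟨sp, sq, sr⟩ := hne
    have pick : ∀ {x : α} {m₁ m₂ : Finset α}, x ∈ K → x ≠ s → m₁ ∈ L → m₂ ∈ L → x ∈ m₁ → x ∈ m₂ →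
        Disjoint m₁ H → Disjoint m₂ H → m₁ ≠ m₂ → s ∈ m₁ ∨ s ∈ m₂ := by
      intro x m₁ m₂ hx hxs h1 h2 x1 x2 d1 d2 h12
      by_contra hcon
      push Not at hcon
      refine P.at_most_two_external h6 hH (hout x hx) h1 h2 (P.join_mem hxs) x1 x2
        (P.left_mem hxs) d1 d2 (hext x hx s hs hxs) h12 ?_ ?_
      · exact fun e => hcon.1 (e ▸ P.right_mem hxs)
      · exact fun e => hcon.2 (e ▸ P.right_mem hxs)
    have dl := hext p hp q hq hpq
    have dm := hext p hp r hr hrp
    have dn := hext q hq r hr hrq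
    have c1 := pick hp (Ne.symm sp) (P.join_mem hpq) (P.join_mem hrp) (P.left_mem hpq)
      (P.left_mem hrp) dl dm hlm
    have c2 := pick hq (Ne.symm sq) (P.join_mem hpq) (P.join_mem hrq) (P.right_mem hpq)
      (P.left_mem hrq) dl dn hln
    have c3 := pick hr (Ne.symm sr) (P.join_mem hrp) (P.join_mem hrq) (P.right_mem hrp)
      (P.right_mem hrq) dm dn hmn
    rcases c1 with a | a <;> rcases c2 with b | b
    · rcases c3 with c | c
      · exact sp (P.unique_meet (P.join_mem hpq) (P.join_mem hrp) hlm a c (P.left_mem hpq) (P.left_mem hrp))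
      · exact sq (P.unique_meet (P.join_mem hpq) (P.join_mem hrq) hln a c (P.right_mem hpq) (P.left_mem hrq))
    · exact sq (P.unique_meet (P.join_mem hpq) (P.join_mem hrq) hln a b (P.right_mem hpq) (P.left_mem hrq))
    · exact sp (P.unique_meet (P.join_mem hpq) (P.join_mem hrp) hlm b a (P.left_mem hpq) (P.left_mem hrp))
    · exact sr (P.unique_meet (P.join_mem hrp) (P.join_mem hrq) hmn a b (P.right_mem hrp) (P.right_mem hrq))
  have := Finset.card_le_card hsub
  have h3 : ({p, q, r} : Finset α).card ≤ 3 := Finset.card_le_three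
  omega

end Oval

end Plane

/-! ### Extending a bijection of hyperovals -/

section Extend

variable {β : Type*} [Fintype β] [DecidableEq β] {L : Set (Finset α)} {L' : Set (Finset β)}
  (P : Plane L) (Q : Plane L') {H : Finset α} {H' : Finset β} (h6 : H.card = 6) (hH : IsArc L H)
  (h6' : H'.card = 6) (hH' : IsArc L' H') (σ : ↥H ≃ ↥H')
include P Q h6 hH h6' hH'

/-- The defining property of the image of a point outside the hyperoval. -/
def Goes (p : α) (q : β) : Prop :=
  q ∉ H' ∧ ∀ a b : ↥H, a ≠ b → (p ∈ join L a b ↔ q ∈ join L' (σ a) (σ b))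

lemma exists_goes {p : α} (hp : p ∉ H) : ∃ q : β, Goes (L := L) (L' := L') σ p q := by
  obtain ⟨a, ha⟩ : H.Nonempty := Finset.card_pos.mp (by omega)
  obtain ⟨b, hb, hba, hpab⟩ := P.exists_partner h6 hH hp ha
  obtain ⟨c, hc, hcn⟩ := Finset.exists_mem_notMem_of_card_lt_card
    (s := ({a, b} : Finset α)) (t := H) (by have := Finset.card_le_two (a := a) (b := b); omega)
  simp only [Finset.mem_insert, Finset.mem_singleton, not_or] at hcn
  obtain ⟨d, hd, hdc, hpcd⟩ := P.exists_partner h6 hH hp hc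
  have hda : d ≠ a := fun e => by
    subst e
    rw [P.join_comm hdc.symm] at hpcd
    exact hcn.2 (P.partner_unique h6 hH hp hd hb hc hba hcn.1 hpab hpcd).symm
  have hdb : d ≠ b := fun e => by
    subst e
    rw [P.join_comm hdc.symm] at hpcd
    rw [P.join_comm hba.symm] at hpab
    exact hcn.1 (P.partner_unique h6 hH hp hd ha hc hba.symm hcn.2 hpab hpcd).symm
  set A : ↥H := ⟨a, ha⟩
  set B : ↥H := ⟨b, hb⟩
  set C : ↥H := ⟨c, hc⟩
  set D : ↥H := ⟨d, hd⟩
  have ne : ∀ {u v : ↥H}, (u : α) ≠ (v : α) → (σ u : β) ≠ (σ v : β) := fun h e =>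
    h (congrArg Subtype.val (σ.injective (Subtype.ext e)))
  have eAB : (σ A : β) ≠ σ B := ne (u := A) (v := B) hba.symm
  have eCD : (σ C : β) ≠ σ D := ne (u := C) (v := D) hdc.symm
  have eAC : (σ A : β) ≠ σ C := ne (u := A) (v := C) (Ne.symm hcn.1)
  have eAD : (σ A : β) ≠ σ D := ne (u := A) (v := D) hda.symm
  have eBC : (σ B : β) ≠ σ C := ne (u := B) (v := C) (Ne.symm hcn.2)
  have eBD : (σ B : β) ≠ σ D := ne (u := B) (v := D) hdb.symm
  obtain ⟨q, q1, q2⟩ := Q.exists_meet (Q.join_mem eAB) (Q.join_mem eCD)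
  have hq : q ∉ H' := Q.meet_not_mem h6' hH' (σ A).2 (σ B).2 (σ C).2 (σ D).2 eAB eCD eAC eAD eBC eBD q1 q2
  have fwd : ∀ u v : ↥H, u ≠ v → p ∈ join L u v → q ∈ join L' (σ u) (σ v) := by
    intro u v huv hpuv
    have huv' : (u : α) ≠ v := fun e => huv (Subtype.ext e)
    have hpvu : p ∈ join L v u := P.join_comm huv' ▸ hpuv
    by_cases h1 : (u : α) = a
    · have e : u = A := Subtype.ext h1
      subst e
      have e : v = B := Subtype.ext (P.partner_unique h6 hH hp ha v.2 hb huv'.symm hba hpuv hpab)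
      subst e; exact q1
    by_cases h2 : (u : α) = b
    · have e : u = B := Subtype.ext h2
      subst e
      have e : v = A := Subtype.ext (P.partner_unique h6 hH hp hb v.2 ha huv'.symm hba.symm hpuv
        (P.join_comm hba.symm ▸ hpab))
      subst e; exact Q.join_comm eAB ▸ q1
    by_cases h3 : (u : α) = c
    · have e : u = C := Subtype.ext h3
      subst e
      have e : v = D := Subtype.ext (P.partner_unique h6 hH hp hc v.2 hd huv'.symm hdc hpuv hpcd)
      subst e; exact q2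
    by_cases h4 : (u : α) = d
    · have e : u = D := Subtype.ext h4
      subst e
      have e : v = C := Subtype.ext (P.partner_unique h6 hH hp hd v.2 hc huv'.symm hdc.symm hpuv
        (P.join_comm hdc.symm ▸ hpcd))
      subst e; exact Q.join_comm eCD ▸ q2
    have va : (v : α) ≠ a := fun e => h2 (by
      rw [e] at hpvu; exact P.partner_unique h6 hH hp ha u.2 hb (fun h => h1 h) hba hpvu hpab)
    have vb : (v : α) ≠ b := fun e => h1 (by
      rw [e] at hpvu
      exact P.partner_unique h6 hH hp hb u.2 ha (fun h => h2 h) hba.symm hpvu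
        (P.join_comm hba.symm ▸ hpab))
    have vc : (v : α) ≠ c := fun e => h4 (by
      rw [e] at hpvu; exact P.partner_unique h6 hH hp hc u.2 hd (fun h => h3 h) hdc hpvu hpcd)
    have vd : (v : α) ≠ d := fun e => h3 (by
      rw [e] at hpvu
      exact P.partner_unique h6 hH hp hd u.2 hc (fun h => h4 h) hdc.symm hpvu
        (P.join_comm hdc.symm ▸ hpcd))
    exact Q.third h6' hH' hq (σ A).2 (σ B).2 (σ C).2 (σ D).2 eAB eCD eAC eAD eBC eBD (σ u).2 (σ v).2
      (ne huv') ⟨ne (v := A) h1, ne (v := B) h2, ne (v := C) h3, ne (v := D) h4⟩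
      ⟨ne (v := A) va, ne (v := B) vb, ne (v := C) vc, ne (v := D) vd⟩ q1 q2
  refine ⟨q, hq, fun u v huv => ⟨fwd u v huv, fun hquv => ?_⟩⟩
  obtain ⟨w, hw, hwu, hpw⟩ := P.exists_partner h6 hH hp u.2
  have huw : u ≠ ⟨w, hw⟩ := fun e => hwu (congrArg Subtype.val e).symm
  have hq' := fwd u ⟨w, hw⟩ huw hpw
  have e := Q.partner_unique h6' hH' hq (σ u).2 (σ ⟨w, hw⟩).2 (σ v).2
    (ne (v := u) hwu) (ne (u := v) (v := u) fun e => huv (Subtype.ext e).symm) hq' hquv
  rwa [← σ.injective (Subtype.ext e)]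

open Classical in
/-- The extension of the bijection to all points. -/
noncomputable def extFun (p : α) : β :=
  if hp : p ∈ H then (σ ⟨p, hp⟩ : β) else (exists_goes P Q h6 hH h6' hH' σ hp).choose

lemma extFun_of_mem {p : α} (hp : p ∈ H) :
    extFun P Q h6 hH h6' hH' σ p = (σ ⟨p, hp⟩ : β) := dif_pos hp

lemma extFun_spec {p : α} (hp : p ∉ H) :
    Goes (L := L) (L' := L') σ p (extFun P Q h6 hH h6' hH' σ p) := by
  rw [extFun, dif_neg hp]
  exact (exists_goes P Q h6 hH h6' hH' σ hp).choose_spec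

lemma extFun_injective : Function.Injective (extFun P Q h6 hH h6' hH' σ) := by
  intro p p' e
  by_cases hp : p ∈ H <;> by_cases hp' : p' ∈ H
  · rw [extFun_of_mem _ _ _ _ _ _ σ hp, extFun_of_mem _ _ _ _ _ _ σ hp'] at e
    exact congrArg Subtype.val (σ.injective (Subtype.ext e))
  · exact absurd (e ▸ (extFun_of_mem P Q h6 hH h6' hH' σ hp).symm ▸ (σ ⟨p, hp⟩).2)
      (extFun_spec P Q h6 hH h6' hH' σ hp').1
  · exact absurd (e.symm ▸ (extFun_of_mem P Q h6 hH h6' hH' σ hp').symm ▸ (σ ⟨p', hp'⟩).2)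
      (extFun_spec P Q h6 hH h6' hH' σ hp).1
  · have s := extFun_spec P Q h6 hH h6' hH' σ hp
    have s' := extFun_spec P Q h6 hH h6' hH' σ hp'
    rw [← e] at s'
    obtain ⟨a, ha⟩ : H.Nonempty := Finset.card_pos.mp (by omega)
    obtain ⟨b, hb, hba, hpab⟩ := P.exists_partner h6 hH hp ha
    obtain ⟨c, hc, hcn⟩ := Finset.exists_mem_notMem_of_card_lt_card
      (s := ({a, b} : Finset α)) (t := H) (by have := Finset.card_le_two (a := a) (b := b); omega)
    simp only [Finset.mem_insert, Finset.mem_singleton, not_or] at hcn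
    obtain ⟨d, hd, hdc, hpcd⟩ := P.exists_partner h6 hH hp hc
    have n1 : (⟨a, ha⟩ : ↥H) ≠ ⟨b, hb⟩ := fun h => hba (congrArg Subtype.val h).symm
    have n2 : (⟨c, hc⟩ : ↥H) ≠ ⟨d, hd⟩ := fun h => hdc (congrArg Subtype.val h).symm
    exact P.eq_of_two_secants h6 hH ha hb hc hd hba.symm hdc.symm hcn.1 hcn.2 hpab hpcd
      ((s'.2 _ _ n1).mpr ((s.2 _ _ n1).mp hpab)) ((s'.2 _ _ n2).mpr ((s.2 _ _ n2).mp hpcd))

lemma extFun_line {l : Finset α} (hl : l ∈ L) : l.image (extFun P Q h6 hH h6' hH' σ) ∈ L' := by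
  set φ := extFun P Q h6 hH h6' hH' σ with hφ
  have hcard : (l.image φ).card = 5 := by
    rw [Finset.card_image_of_injective _ (extFun_injective P Q h6 hH h6' hH' σ), P.card_line hl]
  by_cases hd : Disjoint l H
  · refine Q.clique_line h6' hH' hcard ?_ ?_
    · intro q hq
      obtain ⟨p, hp, rfl⟩ := Finset.mem_image.mp hq
      exact (extFun_spec P Q h6 hH h6' hH' σ (Finset.disjoint_left.mp hd hp)).1
    · intro q hq q' hq' hne
      obtain ⟨p, hp, rfl⟩ := Finset.mem_image.mp hq
      obtain ⟨p', hp', rfl⟩ := Finset.mem_image.mp hq'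
      have s := extFun_spec P Q h6 hH h6' hH' σ (Finset.disjoint_left.mp hd hp)
      have s' := extFun_spec P Q h6 hH h6' hH' σ (Finset.disjoint_left.mp hd hp')
      rw [Finset.disjoint_left]
      intro x hx hxH
      have h2 := Q.inter_oval h6' hH' (Q.join_mem hne) hx hxH
      obtain ⟨y, hy, hyx⟩ := Finset.exists_mem_ne (s := join L' (φ p) (φ p') ∩ H') (by omega) x
      rw [Finset.mem_inter] at hy
      obtain ⟨u, hu⟩ := σ.surjective ⟨x, hxH⟩
      obtain ⟨v, hv⟩ := σ.surjective ⟨y, hy.2⟩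
      have huv : u ≠ v := fun e => hyx (by
        rw [← e, hu] at hv; exact (congrArg Subtype.val hv).symm)
      have ej := Q.eq_join (Q.join_mem hne) hyx.symm hx hy.1
      have m1 : φ p ∈ join L' (σ u : β) (σ v : β) := by
        rw [hu, hv]; exact ej ▸ Q.left_mem hne
      have m2 : φ p' ∈ join L' (σ u : β) (σ v : β) := by
        rw [hu, hv]; exact ej ▸ Q.right_mem hne
      have a1 := (s.2 u v huv).mpr m1
      have a2 := (s'.2 u v huv).mpr m2
      have huv' : (u : α) ≠ v := fun e => huv (Subtype.ext e)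
      have e := P.eq_of_two hl (P.join_mem huv') (fun e => hne (by rw [e])) hp hp' a1 a2
      exact Finset.disjoint_left.mp hd (e.symm ▸ P.left_mem huv') u.2
  · obtain ⟨a, hal, haH⟩ := Finset.not_disjoint_iff.mp hd
    have h2 := P.inter_oval h6 hH hl hal haH
    obtain ⟨b, hb, hba⟩ := Finset.exists_mem_ne (s := l ∩ H) (by omega) a
    rw [Finset.mem_inter] at hb
    have e := P.eq_join hl hba.symm hal hb.1
    have n1 : (⟨a, haH⟩ : ↥H) ≠ ⟨b, hb.2⟩ := fun h => hba (congrArg Subtype.val h).symm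
    have n1' : (σ ⟨a, haH⟩ : β) ≠ σ ⟨b, hb.2⟩ := fun h => n1 (σ.injective (Subtype.ext h))
    suffices l.image φ ⊆ join L' (σ ⟨a, haH⟩) (σ ⟨b, hb.2⟩) by
      rw [Finset.eq_of_subset_of_card_le this (by rw [Q.card_line (Q.join_mem n1'), hcard])]
      exact Q.join_mem n1'
    intro q hq
    obtain ⟨p, hp, rfl⟩ := Finset.mem_image.mp hq
    by_cases hpH : p ∈ H
    · have : p = a ∨ p = b := by
        by_contra h; push Not at h
        exact P.isArc_not_mem hH haH hb.2 hpH hba.symm h.1.symm h.2.symm (e ▸ hp)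
      rcases this with rfl | rfl
      · rw [hφ, extFun_of_mem _ _ _ _ _ _ σ hpH]; exact Q.left_mem n1'
      · rw [hφ, extFun_of_mem _ _ _ _ _ _ σ hpH]; exact Q.right_mem n1'
    · exact ((extFun_spec P Q h6 hH h6' hH' σ hpH).2 _ _ n1).mp (e ▸ hp)

/-- A bijection of hyperovals extends to an isomorphism of the planes. -/
theorem exists_iso : ∃ e : α ≃ β, (fun l => l.image e) '' L = L' ∧ ∀ p : ↥H, e p = σ p := by
  let e : α ≃ β := Equiv.ofBijective (extFun P Q h6 hH h6' hH' σ)
    ((Fintype.bijective_iff_injective_and_card _).mpr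
      ⟨extFun_injective P Q h6 hH h6' hH' σ, P.pts.trans Q.pts.symm⟩)
  refine ⟨e, Set.Subset.antisymm ?_ ?_, fun p => ?_⟩
  · rintro _ ⟨l, hl, rfl⟩
    exact extFun_line P Q h6 hH h6' hH' σ hl
  · intro m hm
    obtain ⟨x, hx, y, hy, hxy⟩ := Finset.one_lt_card.mp (by rw [Q.card_line hm]; norm_num : 1 < m.card)
    have hne : e.symm x ≠ e.symm y := fun h => hxy (e.symm.injective h)
    refine ⟨join L (e.symm x) (e.symm y), P.join_mem hne, ?_⟩
    refine Q.eq_of_two (extFun_line P Q h6 hH h6' hH' σ (P.join_mem hne)) hm hxy ?_ ?_ hx hy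
    · exact Finset.mem_image.mpr ⟨_, P.left_mem hne, e.apply_symm_apply x⟩
    · exact Finset.mem_image.mpr ⟨_, P.right_mem hne, e.apply_symm_apply y⟩
  · exact extFun_of_mem P Q h6 hH h6' hH' σ p.2

/-- The extension is unique. -/
theorem iso_unique (e e' : α ≃ β) (he : ∀ l ∈ L, l.image e ∈ L') (he' : ∀ l ∈ L, l.image e' ∈ L')
    (hσ : ∀ p : ↥H, e p = σ p) (hσ' : ∀ p : ↥H, e' p = σ p) : e = e' := by
  refine Equiv.ext fun p => ?_
  by_cases hp : p ∈ H
  · exact (hσ ⟨p, hp⟩).trans (hσ' ⟨p, hp⟩).symm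
  obtain ⟨a, ha⟩ : H.Nonempty := Finset.card_pos.mp (by omega)
  obtain ⟨b, hb, hba, hpab⟩ := P.exists_partner h6 hH hp ha
  obtain ⟨c, hc, hcn⟩ := Finset.exists_mem_notMem_of_card_lt_card
    (s := ({a, b} : Finset α)) (t := H) (by have := Finset.card_le_two (a := a) (b := b); omega)
  simp only [Finset.mem_insert, Finset.mem_singleton, not_or] at hcn
  obtain ⟨d, hd, hdc, hpcd⟩ := P.exists_partner h6 hH hp hc
  have key : ∀ (f : α ≃ β), (∀ l ∈ L, l.image f ∈ L') → (∀ x : ↥H, f x = σ x) → ∀ {u v : α}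
      (hu : u ∈ H) (hv : v ∈ H), u ≠ v → p ∈ join L u v →
        f p ∈ join L' (σ ⟨u, hu⟩) (σ ⟨v, hv⟩) := by
    intro f hf hfσ u v hu hv huv hpuv
    have hne : f u ≠ f v := fun h => huv (f.injective h)
    rw [← hfσ ⟨u, hu⟩, ← hfσ ⟨v, hv⟩]
    rw [← Q.eq_join (hf _ (P.join_mem huv)) hne (Finset.mem_image_of_mem _ (P.left_mem huv))
      (Finset.mem_image_of_mem _ (P.right_mem huv))]
    exact Finset.mem_image_of_mem _ hpuv
  have ne : ∀ {u v : α} (hu : u ∈ H) (hv : v ∈ H), u ≠ v →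
      (σ ⟨u, hu⟩ : β) ≠ σ ⟨v, hv⟩ := fun hu hv h e0 =>
    h (congrArg Subtype.val (σ.injective (Subtype.ext e0)))
  exact Q.eq_of_two_secants h6' hH' (σ ⟨a, ha⟩).2 (σ ⟨b, hb⟩).2 (σ ⟨c, hc⟩).2 (σ ⟨d, hd⟩).2
    (ne ha hb hba.symm) (ne hc hd hdc.symm) (ne hc ha hcn.1) (ne hc hb hcn.2)
    (key e he hσ ha hb hba.symm hpab) (key e he hσ hc hd hdc.symm hpcd)
    (key e' he' hσ' ha hb hba.symm hpab) (key e' he' hσ' hc hd hdc.symm hpcd)

end Extend

/-! ### Quadrangles and counting -/

namespace Plane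

variable {L : Set (Finset α)} (P : Plane L)
include P

lemma isArc_insert {S : Finset α} (hS : IsArc L S) {x : α}
    (h : ∀ a ∈ S, ∀ b ∈ S, a ≠ b → x ∉ join L a b) : IsArc L (insert x S) := by
  intro l hl
  by_contra hgt
  have h1 := hS l hl
  by_cases hx : x ∈ l
  · have hsub : l ∩ insert x S ⊆ insert x (l ∩ S) := by
      intro y hy; simp only [Finset.mem_inter, Finset.mem_insert] at *; tauto
    have := (Finset.card_le_card hsub).trans (Finset.card_insert_le _ _)
    obtain ⟨a, ha, b, hb, hab⟩ := Finset.one_lt_card.mp (by omega : 1 < (l ∩ S).card)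
    rw [Finset.mem_inter] at ha hb
    exact h a ha.2 b hb.2 hab (P.eq_join hl hab ha.1 hb.1 ▸ hx)
  · exact hgt (by rw [Finset.inter_insert_of_notMem hx]; exact h1)

open Classical in
/-- The points by which an arc extends. -/
noncomputable def extPts (_P : Plane L) (S : Finset α) : Finset α :=
  univ.filter fun x => x ∉ S ∧ IsArc L (insert x S)

lemma mem_extPts {S : Finset α} (hS : IsArc L S) {x : α} (h2 : 2 ≤ S.card) :
    x ∈ P.extPts S ↔ ∀ a ∈ S, ∀ b ∈ S, a ≠ b → x ∉ join L a b := by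
  simp only [extPts, Finset.mem_filter, Finset.mem_univ, true_and]
  refine ⟨fun ⟨hx, hA⟩ a ha b hb hab => P.isArc_not_mem hA (Finset.mem_insert_of_mem ha)
    (Finset.mem_insert_of_mem hb) (Finset.mem_insert_self _ _) hab (fun e => hx (e ▸ ha))
    (fun e => hx (e ▸ hb)), fun h => ⟨fun hx => ?_, P.isArc_insert hS h⟩⟩
  obtain ⟨y, hy, hyx⟩ := Finset.exists_mem_ne (s := S) (by omega) x
  exact h x hx y hy hyx.symm (P.left_mem hyx.symm)

lemma card_extPts_two {S : Finset α} (hS : IsArc L S) (h2 : S.card = 2) :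
    (P.extPts S).card = 16 := by
  obtain ⟨a, b, hab, rfl⟩ := Finset.card_eq_two.mp h2
  have e : P.extPts {a, b} = univ \ join L a b := by
    ext x
    rw [P.mem_extPts hS h2.ge]
    simp only [Finset.mem_insert, Finset.mem_singleton, Finset.mem_sdiff, Finset.mem_univ, true_and]
    refine ⟨fun h => h a (Or.inl rfl) b (Or.inr rfl) hab, fun h u hu v hv huv => ?_⟩
    rcases hu with rfl | rfl <;> rcases hv with rfl | rfl
    exacts [absurd rfl huv, h, P.join_comm hab ▸ h, absurd rfl huv]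
  rw [e, Finset.card_sdiff_of_subset (Finset.subset_univ _), Finset.card_univ, P.pts,
    P.card_line (P.join_mem hab)]

lemma card_extPts_three {S : Finset α} (hS : IsArc L S) (h3 : S.card = 3) :
    (P.extPts S).card = 9 := by
  obtain ⟨a, b, c, hab, hac, hbc, rfl⟩ := Finset.card_eq_three.mp h3
  have ma : a ∈ ({a, b, c} : Finset α) := by simp
  have mb : b ∈ ({a, b, c} : Finset α) := by simp
  have mc : c ∈ ({a, b, c} : Finset α) := by simp
  have e : P.extPts {a, b, c} = univ \ (join L a b ∪ join L a c ∪ join L b c) := by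
    ext x
    rw [P.mem_extPts hS (by omega)]
    simp only [Finset.mem_sdiff, Finset.mem_univ, true_and, Finset.mem_union, not_or]
    refine ⟨fun h => ⟨⟨h a ma b mb hab, h a ma c mc hac⟩, h b mb c mc hbc⟩,
      fun h u hu v hv huv => ?_⟩
    simp only [Finset.mem_insert, Finset.mem_singleton] at hu hv
    rcases hu with rfl | rfl | rfl <;> rcases hv with rfl | rfl | rfl
    exacts [absurd rfl huv, h.1.1, h.1.2, P.join_comm hab ▸ h.1.1, absurd rfl huv, h.2,
      P.join_comm hac ▸ h.1.2, P.join_comm hbc ▸ h.2, absurd rfl huv]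
  have n1 : join L a b ≠ join L a c := fun e0 =>
    P.isArc_not_mem hS ma mb mc hab hac hbc (e0 ▸ P.right_mem hac)
  have n2 : join L b c ≠ join L a b := fun e0 =>
    P.isArc_not_mem hS mb mc ma hbc hab.symm hac.symm (e0 ▸ P.left_mem hab)
  have n3 : join L b c ≠ join L a c := fun e0 =>
    P.isArc_not_mem hS mb mc ma hbc hab.symm hac.symm (e0 ▸ P.left_mem hac)
  have i1 : join L a b ∩ join L a c = {a} := Finset.eq_singleton_iff_unique_mem.mpr
    ⟨Finset.mem_inter.mpr ⟨P.left_mem hab, P.left_mem hac⟩, fun x hx =>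
      P.unique_meet (P.join_mem hab) (P.join_mem hac) n1 (Finset.mem_inter.mp hx).1
        (Finset.mem_inter.mp hx).2 (P.left_mem hab) (P.left_mem hac)⟩
  have i2 : (join L a b ∪ join L a c) ∩ join L b c = {b, c} := by
    ext x
    simp only [Finset.mem_inter, Finset.mem_union, Finset.mem_insert, Finset.mem_singleton]
    refine ⟨?_, ?_⟩
    · rintro ⟨hx | hx, hx'⟩
      · exact Or.inl (P.unique_meet (P.join_mem hbc) (P.join_mem hab) n2 hx' hx (P.left_mem hbc) (P.right_mem hab))
      · exact Or.inr (P.unique_meet (P.join_mem hbc) (P.join_mem hac) n3 hx' hx (P.right_mem hbc) (P.right_mem hac))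
    · rintro (rfl | rfl)
      · exact ⟨Or.inl (P.right_mem hab), P.left_mem hbc⟩
      · exact ⟨Or.inr (P.right_mem hac), P.right_mem hbc⟩
  have c1 := Finset.card_union_add_card_inter (join L a b) (join L a c)
  have c2 := Finset.card_union_add_card_inter (join L a b ∪ join L a c) (join L b c)
  rw [i1, Finset.card_singleton, P.card_line (P.join_mem hab), P.card_line (P.join_mem hac)] at c1
  rw [i2, Finset.card_pair hbc, P.card_line (P.join_mem hbc)] at c2
  rw [e, Finset.card_sdiff_of_subset (Finset.subset_univ _), Finset.card_univ, P.pts]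
  omega

/-- For a quadrangle and one of its vertices, an external line through that vertex carries
exactly one point off the six sides. -/
lemma one_on_tangent {S : Finset α} (hS : IsArc L S) {a b c d : α} (hSe : S = {a, b, c, d})
    (hab : a ≠ b) (hac : a ≠ c) (had : a ≠ d) (hbc : b ≠ c) (hbd : b ≠ d) (hcd : c ≠ d)
    {l : Finset α} (hl : l ∈ L) (hal : a ∈ l) (hb : b ∉ l) (hc : c ∉ l) (hd : d ∉ l) :
    (P.extPts S ∩ l).card = 1 := by
  have ma : a ∈ S := by simp [hSe]
  have mb : b ∈ S := by simp [hSe]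
  have mc : c ∈ S := by simp [hSe]
  have md : d ∈ S := by simp [hSe]
  obtain ⟨x, xl, xm⟩ := P.exists_meet hl (P.join_mem hbc)
  obtain ⟨y, yl, ym⟩ := P.exists_meet hl (P.join_mem hbd)
  obtain ⟨z, zl, zm⟩ := P.exists_meet hl (P.join_mem hcd)
  have na : ∀ {u v : α}, u ∈ S → v ∈ S → u ≠ v → u ≠ a → v ≠ a → a ∉ join L u v :=
    fun hu hv huv hua hva => P.isArc_not_mem hS hu hv ma huv hua hva
  have xa : x ≠ a := fun e => na mb mc hbc hab.symm hac.symm (e ▸ xm)
  have ya : y ≠ a := fun e => na mb md hbd hab.symm had.symm (e ▸ ym)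
  have za : z ≠ a := fun e => na mc md hcd hac.symm had.symm (e ▸ zm)
  have xy : x ≠ y := fun e => hb (by
    have := P.unique_meet (P.join_mem hbc) (P.join_mem hbd)
      (fun e0 => P.isArc_not_mem hS mb mc md hbc hbd hcd (e0 ▸ P.right_mem hbd))
      xm (e ▸ ym) (P.left_mem hbc) (P.left_mem hbd)
    exact this ▸ xl)
  have xz : x ≠ z := fun e => hc (by
    have := P.unique_meet (P.join_mem hbc) (P.join_mem hcd)
      (fun e0 => P.isArc_not_mem hS mb mc md hbc hbd hcd (e0 ▸ P.right_mem hcd))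
      xm (e ▸ zm) (P.right_mem hbc) (P.left_mem hcd)
    exact this ▸ xl)
  have yz : y ≠ z := fun e => hd (by
    have := P.unique_meet (P.join_mem hbd) (P.join_mem hcd)
      (fun e0 => P.isArc_not_mem hS mb md mc hbd hbc hcd.symm (e0 ▸ P.left_mem hcd))
      ym (e ▸ zm) (P.right_mem hbd) (P.right_mem hcd)
    exact this ▸ yl)
  have h2 : 2 ≤ S.card := by
    rw [← Finset.card_pair hab]; exact Finset.card_le_card (by simp [hSe, Finset.insert_subset_iff])
  have e : P.extPts S ∩ l = l \ {a, x, y, z} := by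
    ext w
    rw [Finset.mem_inter, P.mem_extPts hS h2]
    simp only [Finset.mem_sdiff, Finset.mem_insert, Finset.mem_singleton, not_or]
    constructor
    · rintro ⟨h, hw⟩
      exact ⟨hw, fun e => h a ma b mb hab (by rw [e]; exact P.left_mem hab),
        fun e => h b mb c mc hbc (by rw [e]; exact xm), fun e => h b mb d md hbd (by rw [e]; exact ym),
        fun e => h c mc d md hcd (by rw [e]; exact zm)⟩
    · rintro ⟨hw, wa, wx, wy, wz⟩
      refine ⟨?_, hw⟩
      have fa : ∀ {v : α}, v ∈ S → a ≠ v → v ∉ l → w ∉ join L a v := fun hv hav hvl h =>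
        hvl (P.eq_of_two hl (P.join_mem hav) (Ne.symm wa) hal hw (P.left_mem hav) h ▸ P.right_mem hav)
      have ta := fa mb hab hb
      have tb := fa mc hac hc
      have tc := fa md had hd
      have fx : ∀ {u v x' : α}, u ≠ v → x' ∈ l → x' ∈ join L u v → w ≠ x' → u ∉ l →
          w ∉ join L u v := fun huv hxl hxm hwx hul h =>
        hul (P.eq_of_two hl (P.join_mem huv) hwx hw hxl h hxm ▸ P.left_mem huv)
      have t1 := fx hbc xl xm wx hb
      have t2 := fx hbd yl ym wy hb
      have t3 := fx hcd zl zm wz hc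
      have sw : ∀ {p q : α}, p ≠ q → w ∉ join L p q → w ∉ join L q p :=
        fun hpq hh => P.join_comm hpq ▸ hh
      intro u hu v hv huv
      simp only [hSe, Finset.mem_insert, Finset.mem_singleton] at hu hv
      rcases hu with e1 | e1 | e1 | e1 <;> rcases hv with e2 | e2 | e2 | e2 <;>
        rw [e1, e2] at huv ⊢
      exacts [absurd rfl huv, ta, tb, tc, sw hab ta, absurd rfl huv, t1, t2, sw hac tb, sw hbc t1,
        absurd rfl huv, t3, sw had tc, sw hbd t2, sw hcd t3, absurd rfl huv]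
  rw [e, Finset.card_sdiff_of_subset (by simp [Finset.insert_subset_iff, hal, xl, yl, zl]),
    P.card_line hl]
  simp [xa.symm, ya.symm, za.symm, xy, xz, yz]

lemma quadrangle {S : Finset α} (hS : IsArc L S) (h4 : S.card = 4) :
    (P.extPts S).card = 2 ∧ IsArc L (S ∪ P.extPts S) := by
  classical
  have four : ∀ a ∈ S, (∃ l₁ l₂ : Finset α, l₁ ≠ l₂ ∧ l₁ ∈ L ∧ l₂ ∈ L ∧ a ∈ l₁ ∧ a ∈ l₂ ∧
      (P.extPts S ∩ l₁).card = 1 ∧ (P.extPts S ∩ l₂).card = 1 ∧ P.extPts S ⊆ l₁ ∪ l₂) := by
    intro a ha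
    have h3 : (S.erase a).card = 3 := by rw [Finset.card_erase_of_mem ha, h4]
    obtain ⟨b, c, d, hbc, hbd, hcd, he⟩ := Finset.card_eq_three.mp h3
    have hSe : S = {a, b, c, d} := by rw [← Finset.insert_erase ha, he]
    have hab : a ≠ b := fun e => Finset.notMem_erase a S (by rw [he, e]; simp)
    have hac : a ≠ c := fun e => Finset.notMem_erase a S (by rw [he, e]; simp)
    have had : a ≠ d := fun e => Finset.notMem_erase a S (by rw [he, e]; simp)
    set T : Finset (Finset α) := (S.erase a).image (join L a) with hT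
    have hTc : T.card = 3 := by
      rw [hT, Finset.card_image_of_injOn, h3]
      intro u hu v hv e
      simp only [Finset.coe_erase, Set.mem_sdiff, Finset.mem_coe, Set.mem_singleton_iff] at hu hv
      by_contra huv
      exact P.isArc_not_mem hS ha hu.1 hv.1 (Ne.symm hu.2) (Ne.symm hv.2) huv
        (by rw [show join L a u = join L a v from e]; exact P.right_mem (Ne.symm hv.2))
    have hTsub : T ⊆ P.pencil a := by
      intro x hx
      obtain ⟨y, hy, rfl⟩ := Finset.mem_image.mp hx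
      have hne := (Finset.ne_of_mem_erase hy).symm
      exact P.mem_pencil.mpr ⟨P.join_mem hne, P.left_mem hne⟩
    obtain ⟨l₁, l₂, h12, hrest⟩ := Finset.card_eq_two.mp
      (show (P.pencil a \ T).card = 2 by rw [Finset.card_sdiff_of_subset hTsub, P.card_pencil, hTc])
    have hl : ∀ l ∈ P.pencil a \ T, l ∈ L ∧ a ∈ l ∧ ∀ v ∈ S.erase a, v ∉ l := by
      intro l hl
      obtain ⟨h1, h2⟩ := Finset.mem_sdiff.mp hl
      obtain ⟨hlL, hal⟩ := P.mem_pencil.mp h1
      exact ⟨hlL, hal, fun v hv hvl => h2 (Finset.mem_image.mpr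
        ⟨v, hv, (P.eq_join hlL (Finset.ne_of_mem_erase hv).symm hal hvl).symm⟩)⟩
    have one : ∀ l ∈ P.pencil a \ T, (P.extPts S ∩ l).card = 1 := by
      intro l hlm
      obtain ⟨hlL, hal, hout⟩ := hl l hlm
      exact P.one_on_tangent hS hSe hab hac had hbc hbd hcd hlL hal
        (hout b (by simp [he])) (hout c (by simp [he])) (hout d (by simp [he]))
    have m1 : l₁ ∈ P.pencil a \ T := by rw [hrest]; simp
    have m2 : l₂ ∈ P.pencil a \ T := by rw [hrest]; simp
    refine ⟨l₁, l₂, h12, (hl l₁ m1).1, (hl l₂ m2).1, (hl l₁ m1).2.1, (hl l₂ m2).2.1, one l₁ m1,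
      one l₂ m2, fun x hx => ?_⟩
    rw [P.mem_extPts hS (by omega)] at hx
    have hxa : a ≠ x := fun e => hx a ha b (by rw [hSe]; simp) hab (e ▸ P.left_mem hab)
    have hpen : join L a x ∈ P.pencil a \ T := by
      refine Finset.mem_sdiff.mpr ⟨P.mem_pencil.mpr ⟨P.join_mem hxa, P.left_mem hxa⟩, fun h => ?_⟩
      obtain ⟨v, hv, e⟩ := Finset.mem_image.mp h
      exact hx a ha v (Finset.mem_of_mem_erase hv) (Finset.ne_of_mem_erase hv).symm
        (e ▸ P.right_mem hxa)
    rw [hrest, Finset.mem_insert, Finset.mem_singleton] at hpen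
    rw [Finset.mem_union]
    rcases hpen with e | e
    · exact Or.inl (e ▸ P.right_mem hxa)
    · exact Or.inr (e ▸ P.right_mem hxa)
  have hnot : ∀ a ∈ S, a ∉ P.extPts S := fun a ha h => by
    simp only [extPts, Finset.mem_filter] at h; exact h.2.1 ha
  have hcard : (P.extPts S).card = 2 := by
    obtain ⟨a, ha⟩ : S.Nonempty := Finset.card_pos.mp (by omega)
    obtain ⟨l₁, l₂, h12, hl1, hl2, al1, al2, c1, c2, hsub⟩ := four a ha
    have e : P.extPts S = (P.extPts S ∩ l₁) ∪ (P.extPts S ∩ l₂) := by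
      rw [← Finset.inter_union_distrib_left, Finset.inter_eq_left.mpr hsub]
    rw [e, Finset.card_union_of_disjoint, c1, c2]
    rw [Finset.disjoint_left]
    intro x hx hx'
    rw [Finset.mem_inter] at hx hx'
    exact hnot a ha (P.unique_meet hl1 hl2 h12 hx.2 hx'.2 al1 al2 ▸ hx.1)
  refine ⟨hcard, fun l hl => ?_⟩
  by_contra hgt
  have hdis : Disjoint (l ∩ S) (l ∩ P.extPts S) := by
    rw [Finset.disjoint_left]
    intro x hx hx'
    exact hnot x (Finset.mem_inter.mp hx).2 (Finset.mem_inter.mp hx').2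
  rw [Finset.inter_union_distrib_left, Finset.card_union_of_disjoint hdis] at hgt
  have h1 := hS l hl
  have h2 : (l ∩ P.extPts S).card ≤ 2 :=
    hcard ▸ Finset.card_le_card Finset.inter_subset_right
  by_cases hS2 : 1 < (l ∩ S).card
  · obtain ⟨a, ha, b, hb, hab⟩ := Finset.one_lt_card.mp hS2
    rw [Finset.mem_inter] at ha hb
    obtain ⟨x, hx⟩ : (l ∩ P.extPts S).Nonempty := Finset.card_pos.mp (by omega)
    rw [Finset.mem_inter, P.mem_extPts hS (by omega)] at hx
    exact hx.2 a ha.2 b hb.2 hab (P.eq_join hl hab ha.1 hb.1 ▸ hx.1)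
  · obtain ⟨a, ha⟩ : (l ∩ S).Nonempty := Finset.card_pos.mp (by omega)
    rw [Finset.mem_inter] at ha
    obtain ⟨l₁, l₂, h12, hl1, hl2, al1, al2, c1, c2, hsub⟩ := four a ha.2
    have hUl : P.extPts S ⊆ l := by
      have := Finset.eq_of_subset_of_card_le (Finset.inter_subset_right (s₁ := l))
        (by omega : (P.extPts S).card ≤ (l ∩ P.extPts S).card)
      exact fun x hx => (Finset.mem_inter.mp (this.symm ▸ hx)).1
    obtain ⟨x, hx⟩ : (P.extPts S ∩ l₁).Nonempty := Finset.card_pos.mp (by omega)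
    obtain ⟨y, hy⟩ : (P.extPts S ∩ l₂).Nonempty := Finset.card_pos.mp (by omega)
    rw [Finset.mem_inter] at hx hy
    have hxa : a ≠ x := fun e => hnot a ha.2 (e ▸ hx.1)
    have hya : a ≠ y := fun e => hnot a ha.2 (e ▸ hy.1)
    exact h12 ((P.eq_of_two hl hl1 hxa ha.1 (hUl hx.1) al1 hx.2).symm.trans
      (P.eq_of_two hl hl2 hya ha.1 (hUl hy.1) al2 hy.2))

/-- An independent four-set lies in exactly one hyperoval. -/
theorem existsUnique_oval {S : Finset α} (hS : IsArc L S) (h4 : S.card = 4) :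
    ∃! H : Finset α, (H.card = 6 ∧ IsArc L H) ∧ S ⊆ H := by
  obtain ⟨h2, hA⟩ := P.quadrangle hS h4
  have hdis : Disjoint S (P.extPts S) := Finset.disjoint_left.mpr fun x hx h => by
    simp only [extPts, Finset.mem_filter] at h; exact h.2.1 hx
  have hc : (S ∪ P.extPts S).card = 6 := by rw [Finset.card_union_of_disjoint hdis, h4, h2]
  refine ⟨_, ⟨⟨hc, hA⟩, Finset.subset_union_left⟩, ?_⟩
  rintro H ⟨⟨hH6, hHA⟩, hSH⟩
  refine Finset.eq_of_subset_of_card_le (fun x hx => ?_) (by rw [hc, hH6])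
  rw [Finset.mem_union]
  by_cases hxS : x ∈ S
  · exact Or.inl hxS
  · refine Or.inr ((P.mem_extPts hS (by omega)).mpr fun a ha b hb hab => ?_)
    exact P.isArc_not_mem hHA (hSH ha) (hSH hb) hx hab (fun e => hxS (e ▸ ha)) (fun e => hxS (e ▸ hb))

open Classical in
/-- The arcs with a given number of points. -/
noncomputable def arcs (_P : Plane L) (k : ℕ) : Finset (Finset α) :=
  univ.filter fun S => S.card = k ∧ IsArc L S

lemma mem_arcs {k : ℕ} {S : Finset α} : S ∈ P.arcs k ↔ S.card = k ∧ IsArc L S := by simp [arcs]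

lemma arcs_succ (k n : ℕ) (h : ∀ S ∈ P.arcs k, (P.extPts S).card = n) :
    (P.arcs k).card * n = (P.arcs (k + 1)).card * (k + 1) := by
  classical
  refine Finset.card_mul_eq_card_mul (fun S T => S ⊆ T) (fun S hS => ?_) fun T hT => ?_
  · obtain ⟨hc, hA⟩ := P.mem_arcs.mp hS
    have hinj : Set.InjOn (fun x => insert x S) ↑(P.extPts S) := by
      intro x hx y hy e
      simp only [extPts, Finset.coe_filter, Set.mem_ofPred_eq] at hx hy
      have : x ∈ insert y S := (show insert x S = insert y S from e) ▸ Finset.mem_insert_self x S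
      exact (Finset.mem_insert.mp this).resolve_right hx.2.1
    rw [← h S hS, ← Finset.card_image_of_injOn hinj]
    congr 1
    ext T
    simp only [Finset.mem_bipartiteAbove, P.mem_arcs, Finset.mem_image, extPts, Finset.mem_filter,
      Finset.mem_univ, true_and]
    constructor
    · rintro ⟨⟨hTc, hTA⟩, hST⟩
      obtain ⟨x, hxT, hxS⟩ := Finset.exists_mem_notMem_of_card_lt_card (s := S) (t := T) (by omega)
      have e : insert x S = T := Finset.eq_of_subset_of_card_le (Finset.insert_subset hxT hST)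
        (by rw [Finset.card_insert_of_notMem hxS]; omega)
      exact ⟨x, ⟨hxS, e ▸ hTA⟩, e⟩
    · rintro ⟨x, ⟨hxS, hxA⟩, rfl⟩
      exact ⟨⟨by rw [Finset.card_insert_of_notMem hxS, hc], hxA⟩, Finset.subset_insert _ _⟩
  · obtain ⟨hc, hA⟩ := P.mem_arcs.mp hT
    have e : Finset.bipartiteBelow (fun S T => S ⊆ T) (P.arcs k) T = T.powersetCard k := by
      ext S
      simp only [Finset.mem_bipartiteBelow, P.mem_arcs, Finset.mem_powersetCard]
      exact ⟨fun ⟨⟨h1, _⟩, h2⟩ => ⟨h2, h1⟩, fun ⟨h2, h1⟩ => ⟨⟨h1, hA.mono h2⟩, h2⟩⟩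
    rw [e, Finset.card_powersetCard, hc, Nat.choose_succ_self_right]

lemma card_arcs : (P.arcs 4).card = 2520 ∧ (P.arcs 6).card = 168 := by
  classical
  have a2 : (P.arcs 2).card = 210 := by
    have e : P.arcs 2 = (univ : Finset α).powersetCard 2 := by
      ext S
      simp only [P.mem_arcs, Finset.mem_powersetCard, Finset.subset_univ, true_and]
      exact ⟨fun h => h.1, fun h => ⟨h, fun l _ =>
        (Finset.card_le_card Finset.inter_subset_right).trans h.le⟩⟩
    rw [e, Finset.card_powersetCard, Finset.card_univ, P.pts]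
    rfl
  have s2 := P.arcs_succ 2 16 fun S hS => P.card_extPts_two (P.mem_arcs.mp hS).2 (P.mem_arcs.mp hS).1
  have s3 := P.arcs_succ 3 9 fun S hS => P.card_extPts_three (P.mem_arcs.mp hS).2 (P.mem_arcs.mp hS).1
  have s4 : (P.arcs 4).card * 1 = (P.arcs 6).card * 15 := by
    refine Finset.card_mul_eq_card_mul (fun S T => S ⊆ T) (fun S hS => ?_) fun T hT => ?_
    · obtain ⟨hc, hA⟩ := P.mem_arcs.mp hS
      obtain ⟨H, hH, hu⟩ := P.existsUnique_oval hA hc
      rw [Finset.card_eq_one]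
      refine ⟨H, ?_⟩
      ext T
      simp only [Finset.mem_bipartiteAbove, P.mem_arcs, Finset.mem_singleton]
      exact ⟨fun h => hu T h, fun h => h ▸ hH⟩
    · obtain ⟨hc, hA⟩ := P.mem_arcs.mp hT
      have e : Finset.bipartiteBelow (fun S T => S ⊆ T) (P.arcs 4) T = T.powersetCard 4 := by
        ext S
        simp only [Finset.mem_bipartiteBelow, P.mem_arcs, Finset.mem_powersetCard]
        exact ⟨fun ⟨⟨h1, _⟩, h2⟩ => ⟨h2, h1⟩, fun ⟨h2, h1⟩ => ⟨⟨h1, hA.mono h2⟩, h2⟩⟩
      rw [e, Finset.card_powersetCard, hc]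
      rfl
  have s3' : (P.arcs 3).card * 9 = (P.arcs 4).card * 4 := s3
  have s2' : (P.arcs 2).card * 16 = (P.arcs 3).card * 3 := s2
  omega

lemma exists_oval : ∃ H : Finset α, H.card = 6 ∧ IsArc L H := by
  obtain ⟨H, hH⟩ : (P.arcs 6).Nonempty := Finset.card_pos.mp (by rw [P.card_arcs.2]; norm_num)
  exact ⟨H, P.mem_arcs.mp hH⟩

end Plane

end Cfsg.Agent.PlaneFour
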